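import Groth.Agent.Lib.Helper2.PerfBlow.Alg

/-!
# Base change of the affine blow-up algebra of a Koszul-regular sequence (helper2)

Koszul-regular versions of the presentation results of `PerfBlow.Alg` and the key statement:
if `f` is Koszul-regular in `A` and its image is Koszul-regular in `A'`, then `f_{i₀}` stays a
non-zero-divisor in `A[I/f_{i₀}] ⊗_A A'`.
-/

set_option autoImplicit false
set_option linter.style.haveILetI false
set_option linter.unusedSectionVars false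
universe u

open MvPolynomial CategoryTheory CategoryTheory.Limits

namespace Groth.Agent.Lib.Helper2.BlowBC

open Groth.Agent.Lib.Helper1.KoszulSwap Groth.Agent.Lib.Helper1.KoszulConcat
  Groth.Agent.Lib.Helper4.PolyKos Groth.Agent.Lib.Helper2.PerfBlow

section Alg
variable {A : Type u} [CommRing A] {r : ℕ} (f : Fin r → A) (i₀ : Fin r)

/-- the reference Koszul-regular sequence `T_{i₀} - 1, f_1, …, f_r` (Koszul-regular input). -/
theorem kr_ref' (h0 : LCI.IsKoszulRegularSeq A (List.ofFn f)) :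
    LCI.IsKoszulRegularSeq (MvPolynomial (Fin r) A)
      ([X i₀ - 1] ++ (List.ofFn f).map (C : A →+* MvPolynomial (Fin r) A)) := by
  have hl : LCI.IsKoszulRegularSeq (MvPolynomial (Fin r) A)
      ((List.ofFn f).map (C : A →+* MvPolynomial (Fin r) A)) := by
    have := isKoszulRegularSeq_map_of_flat (B := MvPolynomial (Fin r) A) (List.ofFn f) h0
    rwa [MvPolynomial.algebraMap_eq] at this
  refine isKoszulRegularSeq_append _ _ hl ?_
  apply Groth.Agent.Lib.Helper1.SecReg.isKoszulRegularSeq_of_isWeaklyRegular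
  rw [List.map_singleton, RingTheory.Sequence.isWeaklyRegular_singleton_iff]
  set J := Ideal.ofList ((List.ofFn f).map (C : A →+* MvPolynomial (Fin r) A)) with hJ
  have hJ' : J = (Ideal.ofList (List.ofFn f)).map (C : A →+* MvPolynomial (Fin r) A) :=
    Groth.Agent.Lib.Helper1.RegComp.ofList_map _ _
  intro x y hxy
  obtain ⟨p, rfl⟩ := Ideal.Quotient.mk_surjective x
  obtain ⟨q, rfl⟩ := Ideal.Quotient.mk_surjective y
  replace hxy : (Ideal.Quotient.mk J) (X i₀ - 1) * (Ideal.Quotient.mk J) p =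
      (Ideal.Quotient.mk J) (X i₀ - 1) * (Ideal.Quotient.mk J) q := hxy
  rw [← map_mul, ← map_mul, Ideal.Quotient.eq, ← mul_sub] at hxy
  rw [Ideal.Quotient.eq]
  set π := MvPolynomial.map (σ := Fin r) (Ideal.Quotient.mk (Ideal.ofList (List.ofFn f))) with hπ
  have hker : RingHom.ker π = J := by
    rw [hπ, MvPolynomial.ker_map, Ideal.mk_ker, hJ']
  rw [← hker, RingHom.mem_ker] at hxy ⊢
  rw [map_mul, map_sub, map_one, hπ, MvPolynomial.map_X, ← hπ] at hxy
  have h1 : (X i₀ - C (1 : A ⧸ Ideal.ofList (List.ofFn f))) * π (p - q) = 0 := by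
    rw [C_1]; exact hxy
  exact X_sub_C_mul_cancel 1 i₀ _ h1

theorem kr_cons' (h0 : LCI.IsKoszulRegularSeq A (List.ofFn f)) :
    LCI.IsKoszulRegularSeq (MvPolynomial (Fin r) A) (C (f i₀) :: LL f i₀) :=
  isKoszulRegularSeq_of_ofList_eq _ _ (by simp [LL]) (ofList_cons_LL f i₀) (kr_ref' f i₀ h0)

/-- `f_{i₀}` is a non-zero-divisor modulo the relations. -/
theorem mem_of_C_mul_mem (h0 : LCI.IsKoszulRegularSeq A (List.ofFn f))
    (p : MvPolynomial (Fin r) A) (hp : C (f i₀) * p ∈ Ideal.ofList (LL f i₀)) :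
    p ∈ Ideal.ofList (LL f i₀) := by
  refine mem_of_pow_mul_mem (C (f i₀)) (LL f i₀) (kr_cons' f i₀ h0) 1 p ?_
  rwa [pow_one]

end Alg

section Loc
variable {A : Type u} [CommRing A] {r : ℕ} (f : Fin r → A) (i₀ : Fin r)

attribute [local instance] MvPolynomial.algebraMvPolynomial

local notation "Aa" => Localization.Away (f i₀)
local notation "PP" => MvPolynomial (Fin r) A
local notation "BB" => MvPolynomial (Fin r) (Localization.Away (f i₀))
local notation "RR" => BlowUp.affineAlgebra A (Ideal.span (Set.range f)) (f i₀)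

theorem ker_φφ' (h0 : LCI.IsKoszulRegularSeq A (List.ofFn f)) :
    RingHom.ker (φφ f i₀).toRingHom = Ideal.ofList (LL f i₀) := by
  apply le_antisymm
  · intro p hp
    have hp0 : φφ f i₀ p = 0 := hp
    have h1 : ev r (cc f i₀) (algebraMap PP BB p) = 0 := by
      rw [← φφ_val, hp0]
      rfl
    have h2 : algebraMap PP BB p ∈ Ideal.ofList (gl r (cc f i₀)) := by
      have := sub_C_ev_mem r (cc f i₀) (algebraMap PP BB p)
      rwa [h1, C_0, sub_zero] at this
    rw [← ofList_map_LL, Groth.Agent.Lib.Helper1.RegComp.ofList_map] at h2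
    rw [IsLocalization.mem_map_algebraMap_iff (Submonoid.powers (C (f i₀) : PP)) BB] at h2
    obtain ⟨⟨⟨q, hq⟩, ⟨_, k, rfl⟩⟩, h3⟩ := h2
    simp only at h3
    rw [← map_mul, IsLocalization.eq_iff_exists (Submonoid.powers (C (f i₀) : PP)) BB] at h3
    obtain ⟨⟨_, k', rfl⟩, h4⟩ := h3
    simp only at h4
    refine mem_of_pow_mul_mem (C (f i₀)) (LL f i₀) (kr_cons' f i₀ h0) (k' + k) p ?_
    have h5 : C (f i₀) ^ (k' + k) * p = C (f i₀) ^ k' * q := by
      rw [pow_add, mul_assoc, mul_comm (C (f i₀) ^ k) p, h4]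
    rw [h5]
    exact Ideal.mul_mem_left _ _ hq
  · refine Ideal.span_le.2 ?_
    intro x hx
    have hx' : x ∈ LL f i₀ := hx
    rw [LL, List.mem_ofFn] at hx'
    obtain ⟨j, rfl⟩ := hx'
    change φφ f i₀ (GG f i₀ j) = 0
    apply Subtype.ext
    rw [φφ_val]
    have hmem : algebraMap PP BB (GG f i₀ j) ∈ Ideal.ofList (gl r (cc f i₀)) := by
      rw [← ofList_map_LL]
      exact mem_ofList_of_mem (List.mem_map.2 ⟨_, mem_LL f i₀ j, rfl⟩)
    rw [ev_eq_zero_of_mem r (cc f i₀) _ hmem]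
    rfl

end Loc

section BC
variable {A A' : Type u} [CommRing A] [CommRing A'] {r : ℕ} (f : Fin r → A) (i₀ : Fin r)
  (φ : A →+* A')

lemma map_GG (j : Fin r) :
    MvPolynomial.map φ (GG f i₀ j) = GG (fun k => φ (f k)) i₀ j := by
  by_cases hj : j = i₀
  · rw [hj, GG_self, GG_self, map_sub, map_one, MvPolynomial.map_X]
  · rw [GG_ne f i₀ hj, GG_ne _ i₀ hj, map_sub, map_mul, MvPolynomial.map_C, MvPolynomial.map_C,
      MvPolynomial.map_X]

lemma map_mem_LL (p : MvPolynomial (Fin r) A) (hp : p ∈ Ideal.ofList (LL f i₀)) :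
    MvPolynomial.map φ p ∈ Ideal.ofList (LL (fun k => φ (f k)) i₀) := by
  have hle : Ideal.ofList (LL f i₀) ≤
      (Ideal.ofList (LL (fun k => φ (f k)) i₀)).comap (MvPolynomial.map φ) := by
    refine Ideal.span_le.2 ?_
    intro x hx
    have hx' : x ∈ LL f i₀ := hx
    rw [LL, List.mem_ofFn] at hx'
    obtain ⟨j, rfl⟩ := hx'
    change MvPolynomial.map φ (GG f i₀ j) ∈ Ideal.ofList (LL (fun k => φ (f k)) i₀)
    rw [map_GG]
    exact mem_ofList_of_mem (mem_LL _ i₀ j)
  exact hle hp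

end BC

section Push
variable {A A' R S' : CommRingCat.{u}} {α : A ⟶ R} {φ : A ⟶ A'} {ι₁ : R ⟶ S'} {ι₂ : A' ⟶ S'}

/-- the extension of `(f)` to a ring presented by the blow-up relations is principal. -/
theorem map_span_eq {r : ℕ} (f : Fin r → A) (i₀ : Fin r)
    (ψ : MvPolynomial (Fin r) A →+* R) (hψC : ∀ a, ψ (C a) = α.hom a)
    (hψk : Ideal.ofList (LL f i₀) ≤ RingHom.ker ψ) :
    (Ideal.span (Set.range f)).map α.hom = Ideal.span {α.hom (f i₀)} := by
  apply le_antisymm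
  · rw [Ideal.map_span, Ideal.span_le]
    rintro _ ⟨_, ⟨j, rfl⟩, rfl⟩
    by_cases hj : j = i₀
    · rw [hj]
      exact Ideal.subset_span rfl
    · have h1 : ψ (GG f i₀ j) = 0 := hψk (mem_ofList_of_mem (mem_LL f i₀ j))
      rw [GG_ne f i₀ hj, map_sub, map_mul, hψC, hψC, sub_eq_zero] at h1
      change α.hom (f j) ∈ _
      rw [← h1]
      exact Ideal.mul_mem_right _ _ (Ideal.subset_span rfl)
  · rw [Ideal.span_le, Set.singleton_subset_iff]
    exact Ideal.mem_map_of_mem _ (Ideal.subset_span ⟨i₀, rfl⟩)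

/-- the key statement: the generator of the exceptional ideal stays a non-zero-divisor after a
base change preserving Koszul-regularity. -/
theorem mem_nonZeroDivisors_of_isPushout (hpo : IsPushout α φ ι₁ ι₂) {r : ℕ} (f : Fin r → A)
    (i₀ : Fin r) (ψ : MvPolynomial (Fin r) A →+* R) (hψC : ∀ a, ψ (C a) = α.hom a)
    (hψs : Function.Surjective ψ) (hψk : RingHom.ker ψ = Ideal.ofList (LL f i₀))
    (hf' : LCI.IsKoszulRegularSeq A' (List.ofFn (fun j => φ.hom (f j)))) :
    ι₁.hom (α.hom (f i₀)) ∈ nonZeroDivisors S' := by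
  set f' : Fin r → A' := fun j => φ.hom (f j) with hf'def
  set K' := Ideal.ofList (LL f' i₀) with hK'
  -- the map `R → A'[T]/(relations)`
  let g : MvPolynomial (Fin r) A →+* MvPolynomial (Fin r) A' ⧸ K' :=
    (Ideal.Quotient.mk K').comp (MvPolynomial.map φ.hom)
  have hg : RingHom.ker ψ ≤ RingHom.ker g := by
    rw [hψk]
    intro p hp
    rw [RingHom.mem_ker]
    change Ideal.Quotient.mk K' (MvPolynomial.map φ.hom p) = 0
    rw [Ideal.Quotient.eq_zero_iff_mem]
    exact map_mem_LL f i₀ φ.hom p hp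
  let Φ₁ : R →+* MvPolynomial (Fin r) A' ⧸ K' := RingHom.liftOfSurjective ψ hψs ⟨g, hg⟩
  have hΦ₁ : ∀ p, Φ₁ (ψ p) = g p := fun p =>
    RingHom.liftOfRightInverse_comp_apply ψ _ (Function.rightInverse_surjInv hψs) ⟨g, hg⟩ p
  let Φ₂ : A' →+* MvPolynomial (Fin r) A' ⧸ K' := (Ideal.Quotient.mk K').comp C
  have hcompat : α ≫ CommRingCat.ofHom Φ₁ = φ ≫ CommRingCat.ofHom Φ₂ := by
    ext a
    change Φ₁ (α.hom a) = Φ₂ (φ.hom a)
    rw [← hψC, hΦ₁]
    change Ideal.Quotient.mk K' (MvPolynomial.map φ.hom (C a)) = _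
    rw [MvPolynomial.map_C]
    rfl
  let Φ : S' ⟶ CommRingCat.of (MvPolynomial (Fin r) A' ⧸ K') :=
    hpo.desc (CommRingCat.ofHom Φ₁) (CommRingCat.ofHom Φ₂) hcompat
  have hΦ1 : ∀ x, Φ.hom (ι₁.hom x) = Φ₁ x := fun x =>
    congr($(hpo.inl_desc (CommRingCat.ofHom Φ₁) (CommRingCat.ofHom Φ₂) hcompat).hom x)
  have hΦ2 : ∀ x, Φ.hom (ι₂.hom x) = Φ₂ x := fun x =>
    congr($(hpo.inr_desc (CommRingCat.ofHom Φ₁) (CommRingCat.ofHom Φ₂) hcompat).hom x)
  -- the map back
  let E : MvPolynomial (Fin r) A' →+* S' := eval₂Hom ι₂.hom (fun j => ι₁.hom (ψ (X j)))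
  have hE : E.comp (MvPolynomial.map φ.hom) = ι₁.hom.comp ψ := by
    apply MvPolynomial.ringHom_ext
    · intro a
      change E (MvPolynomial.map φ.hom (C a)) = ι₁.hom (ψ (C a))
      rw [MvPolynomial.map_C, hψC]
      change eval₂ _ _ (C _) = _
      rw [eval₂_C]
      exact congr($(hpo.w).hom a).symm
    · intro j
      change E (MvPolynomial.map φ.hom (X j)) = ι₁.hom (ψ (X j))
      rw [MvPolynomial.map_X]
      change eval₂ _ _ (X j) = _
      rw [eval₂_X]
  have hEK : ∀ p ∈ K', E p = 0 := by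
    intro p hp
    have hle : K' ≤ RingHom.ker E := by
      refine Ideal.span_le.2 ?_
      intro x hx
      have hx' : x ∈ LL f' i₀ := hx
      rw [LL, List.mem_ofFn] at hx'
      obtain ⟨j, rfl⟩ := hx'
      change E (GG f' i₀ j) = 0
      rw [hf'def, ← map_GG f i₀ φ.hom j]
      have h1 : E (MvPolynomial.map φ.hom (GG f i₀ j)) = ι₁.hom (ψ (GG f i₀ j)) :=
        congr($hE (GG f i₀ j))
      rw [h1]
      have h2 : GG f i₀ j ∈ RingHom.ker ψ := by
        rw [hψk]
        exact mem_ofList_of_mem (mem_LL f i₀ j)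
      rw [(RingHom.mem_ker).1 h2, map_zero]
    exact hle hp
  let Ψ : MvPolynomial (Fin r) A' ⧸ K' →+* S' := Ideal.Quotient.lift K' E hEK
  have hΨΦ : Φ ≫ CommRingCat.ofHom Ψ = 𝟙 S' := by
    apply hpo.hom_ext
    · ext x
      change Ψ (Φ.hom (ι₁.hom x)) = ι₁.hom x
      obtain ⟨p, rfl⟩ := hψs x
      rw [hΦ1, hΦ₁]
      change Ψ (Ideal.Quotient.mk K' (MvPolynomial.map φ.hom p)) = _
      rw [Ideal.Quotient.lift_mk]
      exact congr($hE p)
    · ext x
      change Ψ (Φ.hom (ι₂.hom x)) = ι₂.hom x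
      rw [hΦ2]
      change Ψ (Ideal.Quotient.mk K' (C x)) = _
      rw [Ideal.Quotient.lift_mk]
      change eval₂ _ _ (C x) = _
      rw [eval₂_C]
  have hinj : Function.Injective Φ.hom := by
    intro x y hxy
    have h1 : Ψ (Φ.hom x) = Ψ (Φ.hom y) := by rw [hxy]
    have h2 : ∀ z, Ψ (Φ.hom z) = z := fun z => congr($(hΨΦ).hom z)
    rwa [h2, h2] at h1
  have hΦt : Φ.hom (ι₁.hom (α.hom (f i₀))) = Ideal.Quotient.mk K' (C (f' i₀)) := by
    rw [hΦ1, ← hψC, hΦ₁]
    change Ideal.Quotient.mk K' (MvPolynomial.map φ.hom (C (f i₀))) = _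
    rw [MvPolynomial.map_C]
  rw [mem_nonZeroDivisors_iff_right]
  intro x hx
  apply hinj
  rw [map_zero]
  obtain ⟨p, hp⟩ := Ideal.Quotient.mk_surjective (Φ.hom x)
  have h3 : Φ.hom x * Φ.hom (ι₁.hom (α.hom (f i₀))) = 0 := by
    rw [← map_mul, hx, map_zero]
  rw [hΦt, ← hp, ← map_mul, Ideal.Quotient.eq_zero_iff_mem, mul_comm] at h3
  rw [← hp, Ideal.Quotient.eq_zero_iff_mem]
  exact mem_of_C_mul_mem f' i₀ hf' p h3

end Push

end Groth.Agent.Lib.Helper2.BlowBC
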