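import Groth.Agent.Lib.Helper2.BlowBC.Alg
import Groth.Agent.Lib.Helper2.PerfBlow.Sch
import Groth.Agent.Lib.Helper17.BlowUpExcFlatSch

/-!
# Blowing up a Koszul-regular ideal commutes with Tor-independent base change (helper2)
-/

set_option autoImplicit false
set_option linter.style.haveILetI false
set_option linter.unusedSectionVars false
universe u

open CategoryTheory CategoryTheory.Limits AlgebraicGeometry Opposite TopologicalSpace

namespace Groth.Agent.Lib.Helper2.BlowBC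

open Groth.Agent.Lib.Helper2.PerfBlow

/-- the presentation of the affine blow-up algebra, for an ideal given with generators. -/
theorem exists_presentation {A : Type u} [CommRing A] {r : ℕ} (f : Fin r → A) (i₀ : Fin r)
    (I : Ideal A) (hI : I = Ideal.span (Set.range f))
    (h0 : LCI.IsKoszulRegularSeq A (List.ofFn f)) :
    ∃ ψ : MvPolynomial (Fin r) A →+* BlowUp.affineAlgebra A I (f i₀),
      (∀ a, ψ (MvPolynomial.C a) = algebraMap A (BlowUp.affineAlgebra A I (f i₀)) a) ∧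
      Function.Surjective ψ ∧ RingHom.ker ψ = Ideal.ofList (LL f i₀) := by
  subst hI
  exact ⟨(φφ f i₀).toRingHom, fun a => (φφ f i₀).commutes a, φφ_surjective f i₀,
    ker_φφ' f i₀ h0⟩

/-- the inverse image of the centre on the base change of the blow-up is effective Cartier. -/
theorem isEffCartier_comap_fst {X X' B : Scheme.{u}} (𝓘 : X.IdealSheafData)
    (h𝓘 : RegImm.IsRegularIdeal .koszul 𝓘) (g : X' ⟶ X)
    (hg : ∀ (U : X.affineOpens) (rs : List Γ(X, U.1)), LCI.IsKoszulRegularSeq Γ(X, U.1) rs →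
      𝓘.ideal U = Ideal.ofList rs → ∀ (V : X'.affineOpens) (e : V.1 ≤ g ⁻¹ᵁ U.1),
        LCI.IsKoszulRegularSeq Γ(X', V.1) (rs.map fun r => (g.appLE U.1 V.1 e).hom r))
    (b : B ⟶ X) (hb : BlowUp.IsBlowUp b 𝓘) :
    BlowUp.IsEffCartierIdeal (𝓘.comap (pullback.fst b g ≫ b)) := by
  intro w
  by_cases hx : b (pullback.fst b g w) ∈ 𝓘.support
  · -- the interesting case
    obtain ⟨⟨U, hU⟩, hxU, rs, hKR, hI0⟩ := h𝓘 _ hx
    have hKR' : LCI.IsKoszulRegularSeq Γ(X, U) rs := hKR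
    have hI0' : 𝓘.ideal ⟨U, hU⟩ = Ideal.ofList rs := hI0
    have hxU' : b (pullback.fst b g w) ∈ U := hxU
    set f : Fin rs.length → Γ(X, U) := rs.get with hfdef
    have hof : List.ofFn f = rs := List.ofFn_get rs
    have hI : 𝓘.ideal ⟨U, hU⟩ = Ideal.span (Set.range f) := by
      rw [hI0', ← Groth.Agent.Lib.Helper9.QuasiReg.ofList_ofFn, hof]
    obtain ⟨j₀, ζ, hζi, hβζ, hζ⟩ :=
      Groth.Agent.Lib.Helper2.ExcSm.exists_chart_gens 𝓘 b hb U hU f hI (pullback.fst b g w) hxU'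
    haveI := hζi
    obtain ⟨hle, θ, hθ⟩ := Groth.Agent.Lib.Helper17.BlowUpExcFlatSch.chart_appLE b U hU _ ζ hζ
    have hV : IsAffineOpen ζ.opensRange := isAffineOpen_opensRange ζ
    -- an affine open of `X'`
    have hq : pullback.snd b g w ∈ g ⁻¹ᵁ U := by
      show g (pullback.snd b g w) ∈ U
      rw [← Scheme.Hom.comp_apply, ← pullback.condition, Scheme.Hom.comp_apply]
      exact hxU'
    obtain ⟨_, ⟨V', hV'a, rfl⟩, hxV', hV'U'⟩ :=
      X'.isBasis_affineOpens.exists_subset_of_mem_open hq (g ⁻¹ᵁ U).isOpen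
    have hV' : IsAffineOpen V' := hV'a
    have hV'U : V' ≤ g ⁻¹ᵁ U := hV'U'
    have H' : IsPullback (pullback.fst b g) (pullback.snd b g) b g := IsPullback.of_hasPullback b g
    obtain ⟨W, hWdef⟩ : ∃ W : (pullback b g).Opens,
        W = pullback.fst b g ⁻¹ᵁ ζ.opensRange ⊓ pullback.snd b g ⁻¹ᵁ V' := ⟨_, rfl⟩
    have hW : IsAffineOpen W := by
      have : IsAffine (U : Scheme.{u}) := hU
      have : IsAffine (V' : Scheme.{u}) := hV'
      have : IsAffine (ζ.opensRange : Scheme.{u}) := hV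
      exact .of_isIso (Scheme.Hom.isPullback_resLE H' hV'U hle hWdef).isoPullback.hom
    have hWV : W ≤ pullback.fst b g ⁻¹ᵁ ζ.opensRange := hWdef ▸ inf_le_left
    have hpo := (isIso_pushoutSection_iff H' hV'U hle hWdef).1
      (isIso_pushoutSection_of_isAffineOpen H' hV'U hle hWdef hU hV' hV)
    -- the presentation of the chart
    have hKRf : LCI.IsKoszulRegularSeq Γ(X, U) (List.ofFn f) := by rw [hof]; exact hKR'
    obtain ⟨ψ₀, hψ₀C, hψ₀s, hψ₀k⟩ := exists_presentation f j₀ (𝓘.ideal ⟨U, hU⟩) hI hKRf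
    have hθinj : Function.Injective θ.inv.hom :=
      (ConcreteCategory.bijective_of_isIso θ.inv).1
    have hθsurj : Function.Surjective θ.inv.hom :=
      (ConcreteCategory.bijective_of_isIso θ.inv).2
    have hψC : ∀ a, (θ.inv.hom.comp ψ₀) (MvPolynomial.C a) = (b.appLE U ζ.opensRange hle).hom a := by
      intro a
      change θ.inv.hom (ψ₀ (MvPolynomial.C a)) = _
      rw [hψ₀C]
      have h3 : θ.hom.hom ((b.appLE U ζ.opensRange hle).hom a) =
          algebraMap Γ(X, U) (BlowUp.affineAlgebra Γ(X, U) (𝓘.ideal ⟨U, hU⟩) (f j₀)) a :=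
        congr($hθ a)
      rw [← h3, ← CommRingCat.comp_apply, Iso.hom_inv_id]
      rfl
    have hψs : Function.Surjective (θ.inv.hom.comp ψ₀) := hθsurj.comp hψ₀s
    have hψk : RingHom.ker (θ.inv.hom.comp ψ₀) = Ideal.ofList (LL f j₀) := by
      rw [← hψ₀k]
      ext p
      rw [RingHom.mem_ker, RingHom.mem_ker]
      change θ.inv.hom (ψ₀ p) = 0 ↔ ψ₀ p = 0
      exact map_eq_zero_iff _ hθinj
    have hKRg := hg ⟨U, hU⟩ rs hKR' hI0' ⟨V', hV'⟩ hV'U
    have hKRg' : LCI.IsKoszulRegularSeq Γ(X', V')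
        (List.ofFn (fun j => (g.appLE U V' hV'U).hom (f j))) := by
      have : (rs.map fun r => (g.appLE U V' hV'U).hom r) =
          List.ofFn (fun j => (g.appLE U V' hV'U).hom (f j)) := by
        conv_lhs => rw [← hof]
        rw [List.map_ofFn]
        rfl
      rw [← this]
      exact hKRg
    have hnzd := mem_nonZeroDivisors_of_isPushout hpo f j₀ (θ.inv.hom.comp ψ₀) hψC hψs hψk hKRg'
    have hspan := map_span_eq (α := b.appLE U ζ.opensRange hle) f j₀ (θ.inv.hom.comp ψ₀) hψC hψk.ge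
    have hWU : W ≤ (pullback.fst b g ≫ b) ⁻¹ᵁ U := by
      intro z hz
      exact hle (hWV hz)
    refine ⟨⟨W, hW⟩, hWdef ▸ ⟨hβζ, hxV'⟩,
      ((pullback.fst b g).appLE ζ.opensRange W hWV).hom
        ((b.appLE U ζ.opensRange hle).hom (f j₀)), hnzd, ?_⟩
    have hspan' := hspan
    rw [← hI] at hspan'
    rw [Groth.Agent.Lib.Helper3.ideal_comap_of_le (pullback.fst b g ≫ b) 𝓘 ⟨W, hW⟩ ⟨U, hU⟩ hWU]
    have hcomp : ((pullback.fst b g ≫ b).appLE U W hWU).hom =
        ((pullback.fst b g).appLE ζ.opensRange W hWV).hom.comp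
          (b.appLE U ζ.opensRange hle).hom := by
      rw [← CommRingCat.hom_comp, Scheme.Hom.appLE_comp_appLE]
    rw [hcomp, ← Ideal.map_map, hspan', Ideal.map_span, Set.image_singleton]
  · -- away from the centre the ideal is trivial
    have hx' : b (pullback.fst b g w) ∈ 𝓘.support.compl := hx
    obtain ⟨U, hU, hxU, hUle⟩ := Opens.isBasis_iff_nbhd.mp X.isBasis_affineOpens hx'
    have hU' : IsAffineOpen U := hU
    have hq : w ∈ (pullback.fst b g ≫ b) ⁻¹ᵁ U := by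
      show (pullback.fst b g ≫ b) w ∈ U
      rw [Scheme.Hom.comp_apply]
      exact hxU
    obtain ⟨_, ⟨W, hWa, rfl⟩, hwW, hWU'⟩ :=
      (pullback b g).isBasis_affineOpens.exists_subset_of_mem_open hq
        ((pullback.fst b g ≫ b) ⁻¹ᵁ U).isOpen
    have hW : IsAffineOpen W := hWa
    have hWU : W ≤ (pullback.fst b g ≫ b) ⁻¹ᵁ U := hWU'
    refine ⟨⟨W, hWa⟩, hwW, 1, one_mem _, ?_⟩
    rw [Groth.Agent.Lib.Helper3.ideal_comap_of_le (pullback.fst b g ≫ b) 𝓘 ⟨W, hWa⟩ ⟨U, hU'⟩ hWU,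
      ideal_eq_top_of_disjoint 𝓘 ⟨U, hU'⟩, Ideal.map_top, Ideal.span_singleton_one]
    rw [Set.disjoint_iff]
    rintro y ⟨hy1, hy2⟩
    exact hUle hy2 hy1

theorem main {X X' B : Scheme.{u}} (𝓘 : X.IdealSheafData)
    (h𝓘 : RegImm.IsRegularIdeal .koszul 𝓘) (g : X' ⟶ X)
    (hg : ∀ (U : X.affineOpens) (rs : List Γ(X, U.1)), LCI.IsKoszulRegularSeq Γ(X, U.1) rs →
      𝓘.ideal U = Ideal.ofList rs → ∀ (V : X'.affineOpens) (e : V.1 ≤ g ⁻¹ᵁ U.1),
        LCI.IsKoszulRegularSeq Γ(X', V.1) (rs.map fun r => (g.appLE U.1 V.1 e).hom r))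
    (b : B ⟶ X) (hb : BlowUp.IsBlowUp b 𝓘) :
    BlowUp.IsBlowUp (pullback.snd b g) (𝓘.comap g) := by
  refine ⟨?_, ?_⟩
  · rw [← Scheme.IdealSheafData.comap_comp, ← pullback.condition]
    exact isEffCartier_comap_fst 𝓘 h𝓘 g hg b hb
  · intro Y h hh
    rw [← Scheme.IdealSheafData.comap_comp] at hh
    obtain ⟨k, hk, hku⟩ := hb.2 Y (h ≫ g) hh
    have hk' : k ≫ b = h ≫ g := hk
    refine ⟨pullback.lift k h hk', pullback.lift_snd _ _ _, ?_⟩
    intro m hm
    have hm' : m ≫ pullback.snd b g = h := hm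
    apply pullback.hom_ext
    · rw [pullback.lift_fst]
      apply hku
      show (m ≫ pullback.fst b g) ≫ b = h ≫ g
      rw [Category.assoc, pullback.condition, ← Category.assoc, hm']
    · rw [pullback.lift_snd, hm']

end Groth.Agent.Lib.Helper2.BlowBC
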